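import Groth.Agent.MorLib.QFSplit

/-! Splitting off quasi-finite points, without separatedness. -/

set_option autoImplicit false
universe u

namespace Groth.Agent.MorLib.WT

open AlgebraicGeometry CategoryTheory Limits Filter Topology
open Groth.Agent.MorLib.GF (pt pt_comp geomSum)

variable {X S T V : Scheme.{u}} {Ω : Type u} [Field Ω] [IsAlgClosed Ω]

set_option backward.isDefEq.respectTransparency.types false in
/-- Splitting off quasi-finite points over an étale neighbourhood. -/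
theorem exists_split' (f : X ⟶ S) [LocallyOfFiniteType f] (s : S)
    {ι : Type} [Finite ι] (x : ι → ↑X) (hinj : Function.Injective x) (hs : ∀ i, f (x i) = s)
    (hx : ∀ i, f.QuasiFiniteAt (x i)) :
    ∃ (U : Scheme.{u}) (g : U ⟶ S) (u : U), Etale g ∧ g u = s ∧
      ∃ (J : ι → Type) (_ : ∀ i, Finite (J i)) (V : ∀ i, J i → (pullback f g).Opens)
        (v : ∀ i, J i → ↑(pullback f g)),
        (∀ i j, v i j ∈ V i j ∧ IsFinite ((V i j).ι ≫ pullback.snd f g) ∧ pullback.snd f g (v i j) = u ∧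
          (∀ w : ↑(pullback f g), w ∈ V i j → pullback.snd f g w = u → w = v i j) ∧
          (letI := ((pullback.snd f g).residueFieldMap (v i j)).hom.toAlgebra
           Module.Finite ↑(U.residueField (pullback.snd f g (v i j))) ↑((pullback f g).residueField (v i j)) ∧
           IsPurelyInseparable ↑(U.residueField (pullback.snd f g (v i j))) ↑((pullback f g).residueField (v i j))) ∧
          pullback.fst f g (v i j) = x i) ∧
        (∀ i j i' j', v i j = v i' j' → i = i' ∧ HEq j j') ∧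
        (∀ (w : ↑(pullback f g)) (i : ι), pullback.snd f g w = u → pullback.fst f g w = x i → ∃ j, w = v i j) := by
  classical
  obtain ⟨Ω, _, _, sb, rfl⟩ := GF.exists_geomPoint s
  let L := fun i => {δ : Spec (CommRingCat.of Ω) ⟶ X // δ ≫ f = sb ∧ pt δ = x i}
  haveI : ∀ i, Finite (L i) := fun i => (GF.lifts_at' f sb (x i) (hs i) (hx i)).1
  let J := fun i => Fin (Nat.card (L i))
  let e := fun i => (Finite.equivFin (L i)).symm
  let Idx : Type u := ULift.{u} (Σ i, J i)
  let γ : Idx → Lifts f sb := fun a => ⟨(e a.down.1 a.down.2).1, (e a.down.1 a.down.2).2.1⟩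
  have hγx : ∀ a : Idx, pt (γ a).1 = x a.down.1 := fun a => (e a.down.1 a.down.2).2.2
  have hγinj : Function.Injective γ := by
    rintro ⟨⟨i, j⟩⟩ ⟨⟨i', j'⟩⟩ h
    have h' : (e i j).1 = (e i' j').1 := congrArg Subtype.val h
    obtain rfl : i = i' := hinj ((e i j).2.2.symm.trans ((congrArg pt h').trans (e i' j').2.2))
    rw [(e i).injective (Subtype.ext h')]
  obtain ⟨T, V₁, k, π, h, vb, W, δ, hc, he, rfl, hp⟩ := exists_decomp' f sb γ fun a => by
    rw [hγx]; exact hx _
  haveI : LocallyOfFiniteType π := MorphismProperty.of_isPullback hc inferInstance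
  have hne : ∀ a b, a ≠ b → δ a ≠ δ b := fun a b hab hd =>
    hab (hγinj (Subtype.ext ((hp a).2.symm.trans ((congrArg (· ≫ k) hd).trans (hp b).2))))
  let g : V₁ ⟶ S := h
  let π' := pullback.snd f g
  let k' := pullback.fst f g
  let m : pullback f g ⟶ T := hc.lift k' (π' ≫ 𝟙 V₁) (by rw [pullback.condition, Category.comp_id])
  have hu₀ : vb ≫ 𝟙 V₁ = vb := Category.comp_id _
  have hm : IsPullback m π' π (𝟙 V₁) :=
    IsPullback.of_right (by rw [IsPullback.lift_fst, Category.id_comp]; exact IsPullback.of_hasPullback f g)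
      (hc.lift_snd ..) hc
  have hp' := fun a => (hp a).1.baseChange hm vb hu₀
  let d := fun a => hm.lift (δ a) vb (by rw [(hp a).1.over, hu₀])
  have hkd : ∀ a, d a ≫ k' = (γ a).1 := fun a => by
    rw [show k' = m ≫ k from (hc.lift_fst ..).symm, ← Category.assoc,
      show d a ≫ m = δ a from hm.lift_fst .., (hp a).2]
  refine ⟨V₁, g, pt vb, inferInstance, ?_, J, fun i => inferInstance,
    fun i j => m ⁻¹ᵁ W ⟨⟨i, j⟩⟩, fun i j => pt (d ⟨⟨i, j⟩⟩), ?_, ?_, ?_⟩
  · rw [← pt_comp]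
  · intro i j
    have h1 := hp' ⟨⟨i, j⟩⟩
    refine ⟨h1.mem, h1.finite, (pt_comp _ _).symm.trans (congrArg pt h1.over), fun w hw hwu => ?_,
      ⟨GF.finite_residueFieldMap' π' _ (@quasiFiniteAt_of_mem _ _ π' inferInstance _ (haveI := h1.finite; inferInstance) _ h1.mem),
      h1.isPurelyInseparable⟩, ?_⟩
    · exact h1.eq_of_over' hw hwu
    · rw [← pt_comp, hkd]
      exact hγx _
  · intro i j i' j' hv
    have hd : d ⟨⟨i', j'⟩⟩ = d ⟨⟨i, j⟩⟩ :=
      (hp' ⟨⟨i, j⟩⟩).uniq _ (hp' ⟨⟨i', j'⟩⟩).over (by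
        rw [← show pt (d ⟨⟨i, j⟩⟩) = pt (d ⟨⟨i', j'⟩⟩) from hv]
        exact (hp' ⟨⟨i, j⟩⟩).mem)
    by_contra hne'
    exact hne ⟨⟨i', j'⟩⟩ ⟨⟨i, j⟩⟩ (fun hab => hne' (by
      obtain ⟨rfl, h2⟩ := Sigma.mk.inj_iff.mp (congrArg ULift.down hab)
      exact ⟨rfl, h2.symm⟩)) (by
        rw [← hm.lift_fst (δ ⟨⟨i', j'⟩⟩) vb (by rw [(hp _).1.over, hu₀]),
          ← hm.lift_fst (δ ⟨⟨i, j⟩⟩) vb (by rw [(hp _).1.over, hu₀])]
        exact congrArg (· ≫ m) hd)
  · intro w i hwu hwx
    let X₀ := f.quasiFiniteLocus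
    haveI : LocallyQuasiFinite (X₀.ι ≫ f) := by
      rw [← Scheme.Hom.quasiFiniteLocus_eq_top_iff, Scheme.Hom.quasiFiniteLocus_comp]
      exact Scheme.Opens.ι_preimage_self X₀
    haveI : LocallyQuasiFinite ((k' ⁻¹ᵁ X₀).ι ≫ π') :=
      MorphismProperty.of_isPullback
        ((isPullback_morphismRestrict k' X₀).paste_vert (IsPullback.of_hasPullback f g)) inferInstance
    have hw : w ∈ k' ⁻¹ᵁ X₀ := by
      show k' w ∈ X₀
      rw [hwx]; exact hx i
    obtain ⟨dw, hdw, rfl⟩ := GF.exists_lift' π' vb w hwu (quasiFiniteAt_of_mem π' _ hw)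
    let l : L i := ⟨dw ≫ k', by
      rw [Category.assoc, pullback.condition, reassoc_of% hdw], by
      rw [pt_comp]; exact hwx⟩
    refine ⟨(e i).symm l, ?_⟩
    have hd : dw = d ⟨⟨i, (e i).symm l⟩⟩ := (IsPullback.of_hasPullback f g).hom_ext
      ((congrArg Subtype.val ((e i).apply_symm_apply l)).symm.trans (hkd ⟨⟨i, (e i).symm l⟩⟩).symm)
      (hdw.trans (hm.lift_snd ..).symm)
    rw [hd]

end Groth.Agent.MorLib.WT
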